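import Groth.Agent.ValRed.Ring
import Groth.Agent.FibCrit.Stalk

/-!
Fibres of a proper flat scheme over a valuation ring with reduced closed fibre.
-/

set_option autoImplicit false
set_option linter.style.haveILetI false

universe u

open AlgebraicGeometry CategoryTheory CategoryTheory.Limits

namespace Groth.Agent.ValRed

/-- the composite of `R → Γ(Spec R) → stalk` -/
noncomputable def α {R : Type u} [CommRing R] (p : ↥(Spec (CommRingCat.of R))) :
    R →+* (Spec (CommRingCat.of R)).presheaf.stalk p :=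
  ((Scheme.ΓSpecIso (CommRingCat.of R)).inv ≫ (Spec (CommRingCat.of R)).presheaf.germ ⊤ p trivial).hom

theorem α_spec {R : Type u} [CommRing R] (p : ↥(Spec (CommRingCat.of R))) :
    (IsLocalRing.maximalIdeal ((Spec (CommRingCat.of R)).presheaf.stalk p)).comap (α p) = p.asIdeal ∧
      p.asIdeal.map (α p) = IsLocalRing.maximalIdeal ((Spec (CommRingCat.of R)).presheaf.stalk p) := by
  haveI hp : p.asIdeal.IsPrime := PrimeSpectrum.isPrime (R := R) p
  letI : Algebra R ((Spec (CommRingCat.of R)).presheaf.stalk p) := StructureSheaf.stalkAlgebra R p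
  haveI : IsLocalization.AtPrime ((Spec (CommRingCat.of R)).presheaf.stalk p) p.asIdeal :=
    StructureSheaf.IsLocalization.to_stalk R p
  have h1 : α p = algebraMap R ((Spec (CommRingCat.of R)).presheaf.stalk p) := rfl
  rw [h1]
  exact ⟨IsLocalization.AtPrime.under_maximalIdeal _ p.asIdeal,
    IsLocalization.AtPrime.map_eq_maximalIdeal p.asIdeal _⟩

variable {R : Type u} [CommRing R] [IsDomain R] [ValuationRing R] {X : Scheme.{u}}
  (f : X ⟶ Spec (CommRingCat.of R))

/-- the structure map on a stalk -/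
noncomputable def ρ (y : X) : R →+* X.presheaf.stalk y := (f.stalkMap y).hom.comp (α (f y))

omit [IsDomain R] [ValuationRing R] in
theorem map_ρ (y : X) : (f y).asIdeal.map (ρ f y) =
    (IsLocalRing.maximalIdeal ((Spec (CommRingCat.of R)).presheaf.stalk (f y))).map (f.stalkMap y).hom := by
  rw [ρ, ← Ideal.map_map, (α_spec (f y)).2]

omit [IsDomain R] [ValuationRing R] in
theorem comap_ρ (y : X) : (IsLocalRing.maximalIdeal (X.presheaf.stalk y)).comap (ρ f y) = (f y).asIdeal := by
  rw [ρ, ← Ideal.comap_comap]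
  refine Eq.trans (congrArg _ ?_) (α_spec (f y)).1
  exact ((IsLocalRing.local_hom_TFAE (f.stalkMap y).hom).out 0 4).1 (inferInstance : IsLocalHom (f.stalkMap y).hom)

omit [IsDomain R] [ValuationRing R] in
theorem germ_comp (U : X.Opens) (y : X) (hy : y ∈ U) :
    ρ f y = (X.presheaf.germ U y hy).hom.comp
      (((Scheme.ΓSpecIso (CommRingCat.of R)).inv ≫ f.appLE ⊤ U (by simp)).hom) := by
  have : ((Scheme.ΓSpecIso (CommRingCat.of R)).inv ≫ (Spec (CommRingCat.of R)).presheaf.germ ⊤ (f y) trivial) ≫ f.stalkMap y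
      = ((Scheme.ΓSpecIso (CommRingCat.of R)).inv ≫ f.appLE ⊤ U (by simp)) ≫ X.presheaf.germ U y hy := by
    simp only [Category.assoc, Scheme.Hom.appLE, TopCat.Presheaf.germ_res]
    exact congrArg _ (f.germ_stalkMap ⊤ y trivial)
  exact congrArg CommRingCat.Hom.hom this

theorem mem_map_of_pow_mem_stalk [IsProper f] [Flat f]
    (hred : IsReduced (f.fiber (IsLocalRing.closedPoint R))) (y : X) (p : Ideal R) [p.IsPrime]
    {c : X.presheaf.stalk y} {n : ℕ} (hc : c ^ n ∈ p.map (ρ f y)) : c ∈ p.map (ρ f y) := by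
  -- a specialisation in the closed fibre
  have hcl : IsLocalRing.closedPoint R ∈ f '' closure {y} :=
    (IsLocalRing.specializes_closedPoint (f y)).mem_closed (f.isClosedMap _ isClosed_closure)
      ⟨y, subset_closure rfl, rfl⟩
  obtain ⟨x₀, hx₀, hfx₀⟩ := hcl
  have : x₀ ∈ Set.range (f.fiberι (IsLocalRing.closedPoint R)) := by
    exact (Set.ext_iff.1 (f.range_fiberι (IsLocalRing.closedPoint R : ↥(Spec (CommRingCat.of R)))) x₀).2 hfx₀
  obtain ⟨z, rfl⟩ := this
  have hyx : y ⤳ f.fiberι _ z := specializes_iff_mem_closure.2 hx₀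
  have hredx : IsReduced (X.presheaf.stalk (f.fiberι _ z) ⧸
      (IsLocalRing.maximalIdeal R).map (ρ f (f.fiberι _ z))) := by
    obtain ⟨hs, hk⟩ := FibCrit.fiberι_stalkMap f _ z
    haveI : IsReduced ((f.fiber (IsLocalRing.closedPoint R)).presheaf.stalk z) := inferInstance
    have hk' : RingHom.ker ((f.fiberι _).stalkMap z).hom =
        (IsLocalRing.maximalIdeal R).map (ρ f (f.fiberι _ z)) := by
      rw [hk, ← map_ρ, hfx₀]; rfl
    rw [← hk']
    exact isReduced_of_injective (RingHom.quotientKerEquivOfSurjective hs).toRingHom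
      (RingEquiv.injective _)
  generalize f.fiberι _ z = x at hyx hredx hfx₀
  obtain ⟨U, hU, hxU, -⟩ := exists_isAffineOpen_mem_and_subset (x := x) (U := ⊤) trivial
  have hyU : y ∈ U := hyx.mem_open U.2 hxU
  let φ := (Scheme.ΓSpecIso (CommRingCat.of R)).inv ≫ f.appLE ⊤ U (by simp)
  algebraize [φ.hom]
  have hiso : Function.Bijective (Scheme.ΓSpecIso (CommRingCat.of R)).inv.hom :=
    (Scheme.ΓSpecIso (CommRingCat.of R)).commRingCatIsoToRingEquiv.symm.bijective
  haveI : Algebra.FiniteType R Γ(X, U) := by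
    have h2 := f.finiteType_appLE (isAffineOpen_top _) hU (e := by simp)
    exact (RingHom.FiniteType.comp h2 (RingHom.FiniteType.of_surjective _ hiso.2) :)
  haveI : Module.Flat R Γ(X, U) := by
    have h2 : (f.appLE ⊤ U (by simp)).hom.Flat :=
      HasRingHomProperty.appLE @Flat f inferInstance ⟨⊤, isAffineOpen_top _⟩ ⟨U, hU⟩ (by simp)
    exact (RingHom.Flat.comp (RingHom.Flat.of_bijective hiso) h2 :)
  letI := (X.presheaf.germ U x hxU).hom.toAlgebra
  letI := (X.presheaf.germ U y hyU).hom.toAlgebra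
  haveI := hU.isLocalization_stalk ⟨x, hxU⟩
  haveI := hU.isLocalization_stalk ⟨y, hyU⟩
  rw [germ_comp f U y hyU] at hc ⊢
  rw [germ_comp f U x hxU] at hredx
  refine mem_map_atPrime_of_pow_mem (V := R) (A := Γ(X, U)) (hU.primeIdealOf ⟨x, hxU⟩).asIdeal
    (hU.primeIdealOf ⟨y, hyU⟩).asIdeal ?_ ?_ (Bx := X.presheaf.stalk x) (By := X.presheaf.stalk y) hredx p hc
  · intro a ha
    by_contra h
    have h1 := (IsLocalization.AtPrime.isUnit_to_map_iff (X.presheaf.stalk x) (hU.primeIdealOf ⟨x, hxU⟩).asIdeal a).2 h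
    have h2 := h1.map (X.presheaf.stalkSpecializes hyx).hom
    have h3 : (X.presheaf.stalkSpecializes hyx).hom ((X.presheaf.germ U x hxU).hom a) =
        (X.presheaf.germ U y hyU).hom a :=
      congrArg (fun g => g.hom a) (X.presheaf.germ_stalkSpecializes hxU hyx)
    change IsUnit ((X.presheaf.stalkSpecializes hyx).hom ((X.presheaf.germ U x hxU).hom a)) at h2
    rw [h3] at h2
    exact (IsLocalization.AtPrime.isUnit_to_map_iff (X.presheaf.stalk y) (hU.primeIdealOf ⟨y, hyU⟩).asIdeal a).1 h2 ha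
  · have h1 := comap_ρ f x
    rw [hfx₀, germ_comp f U x hxU, ← Ideal.comap_comap] at h1
    rw [← IsLocalization.AtPrime.comap_maximalIdeal (X.presheaf.stalk x) (hU.primeIdealOf ⟨x, hxU⟩).asIdeal]
    exact h1

theorem isReduced_of_closedFibre [IsProper f] [Flat f]
    (hred : IsReduced (f.fiber (IsLocalRing.closedPoint R))) :
    IsReduced X ∧ ∀ s : ↑(Spec (CommRingCat.of R)), IsReduced (f.fiber s) := by
  refine ⟨?_, fun s => ?_⟩
  · haveI : ∀ y : X, _root_.IsReduced (X.presheaf.stalk y) := fun y => ⟨fun c ⟨n, hn⟩ => by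
      have := mem_map_of_pow_mem_stalk f hred y ⊥ (c := c) (n := n) (by rw [hn]; exact zero_mem _)
      rwa [Ideal.map_bot, Ideal.mem_bot] at this⟩
    exact isReduced_of_isReduced_stalk X
  · haveI : ∀ z : f.fiber s, _root_.IsReduced ((f.fiber s).presheaf.stalk z) := fun z => ⟨fun c ⟨n, hn⟩ => by
      obtain ⟨hs, hk⟩ := FibCrit.fiberι_stalkMap f s z
      obtain ⟨c, rfl⟩ := hs c
      have h1 : c ^ n ∈ RingHom.ker ((f.fiberι s).stalkMap z).hom := by
        rw [RingHom.mem_ker, map_pow]; exact hn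
      rw [hk, ← map_ρ] at h1
      haveI : (f (f.fiberι s z)).asIdeal.IsPrime := (f (f.fiberι s z)).isPrime
      have h2 := mem_map_of_pow_mem_stalk f hred _ _ h1
      rw [map_ρ, ← hk] at h2
      exact h2⟩
    exact isReduced_of_isReduced_stalk _

end Groth.Agent.ValRed
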