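import Groth.Agent.S1216
import Mathlib

/-!
Over a valuation ring, a flat algebra of finite type whose closed fibre is reduced has all its fibres
reduced near the closed fibre.
-/

set_option autoImplicit false
set_option linter.style.haveILetI false

universe u

namespace Groth.Agent.ValRed

variable {V : Type u} [CommRing V] [IsDomain V] [ValuationRing V]

/-- local version -/
theorem mem_map_of_pow_mem {B : Type u} [CommRing B] [IsLocalRing B] [Algebra V B]
    [IsLocalHom (algebraMap V B)] [Algebra.EssFiniteType V B] [Module.Flat V B]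
    (hred : IsReduced (B ⧸ (IsLocalRing.maximalIdeal V).map (algebraMap V B)))
    (p : Ideal V) [p.IsPrime] {f : B} {n : ℕ} (hf : f ^ n ∈ p.map (algebraMap V B)) :
    f ∈ p.map (algebraMap V B) := by
  obtain ⟨I, hI, hfI, hmin⟩ := Groth.Agent.S1216.result (A := V) (B := B) B f
  obtain ⟨π, rfl⟩ := hI.principal
  obtain ⟨γ, hγ, z, hz⟩ := Groth.Agent.ValFP.exists_smul_of_mem_smul_top hfI
  obtain ⟨r, rfl⟩ := Submodule.mem_span_singleton.1 hγ
  obtain ⟨g, hg⟩ : ∃ g, f = algebraMap V B π * g :=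
    ⟨r • z, by rw [hz, smul_eq_mul, mul_comm r π, mul_smul, Algebra.smul_def]⟩
  by_cases hp : π ∈ p
  · rw [hg]; exact Ideal.mul_mem_right _ _ (Ideal.mem_map_of_mem _ hp)
  exfalso
  have hpn : π ^ n ∉ p := fun h => hp (Ideal.IsPrime.mem_of_pow_mem ‹_› n h)
  have hpn0 : π ^ n ≠ 0 := fun h => hpn (h ▸ zero_mem p)
  -- divide by `π ^ n`
  have hgn : g ^ n ∈ p.map (algebraMap V B) := by
    rw [hg, mul_pow, ← map_pow] at hf
    have hf' : algebraMap V B (π ^ n) * g ^ n ∈ p • (⊤ : Submodule V B) := by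
      rw [Ideal.smul_top_eq_map]; exact hf
    obtain ⟨c, hc, w, hw⟩ := Groth.Agent.ValFP.exists_smul_of_mem_smul_top hf'
    obtain ⟨c', rfl⟩ : π ^ n ∣ c := (ValuationRing.dvd_total (π ^ n) c).resolve_right fun ⟨t, ht⟩ =>
      hpn (ht ▸ p.mul_mem_right t hc)
    have hc' : c' ∈ p := (Ideal.IsPrime.mem_or_mem ‹_› hc).resolve_left hpn
    have : π ^ n • g ^ n = π ^ n • (c' • w) := by rw [← mul_smul, ← hw, Algebra.smul_def]
    rw [Module.Flat.isSMulRegular_of_nonZeroDivisors (mem_nonZeroDivisors_of_ne_zero hpn0) this, Algebra.smul_def]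
    exact Ideal.mul_mem_right _ _ (Ideal.mem_map_of_mem _ hc')
  have hgm : g ∈ (IsLocalRing.maximalIdeal V).map (algebraMap V B) := by
    rw [← Ideal.Quotient.eq_zero_iff_mem]
    refine hred.eq_zero _ ⟨n, ?_⟩
    rw [← map_pow, Ideal.Quotient.eq_zero_iff_mem]
    exact Ideal.map_mono (IsLocalRing.le_maximalIdeal Ideal.IsPrime.ne_top') hgn
  obtain ⟨c, hc, h, hh⟩ := Groth.Agent.ValFP.exists_smul_of_mem_smul_top
    (show g ∈ IsLocalRing.maximalIdeal V • (⊤ : Submodule V B) by rw [Ideal.smul_top_eq_map]; exact hgm)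
  have hle := hmin (Ideal.span {π * c}) (by
    rw [Ideal.smul_top_eq_map]
    change f ∈ (Ideal.span {π * c}).map (algebraMap V B)
    rw [hg, hh, Algebra.smul_def, ← mul_assoc, ← map_mul]
    exact Ideal.mul_mem_right _ _ (Ideal.mem_map_of_mem _ (Ideal.mem_span_singleton_self _)))
  obtain ⟨r, hr⟩ := Ideal.mem_span_singleton.1 (hle (Submodule.mem_span_singleton_self π))
  have hπ0 : π ≠ 0 := fun h => hp (h ▸ zero_mem p)
  have : (1 : V) = c * r := mul_left_cancel₀ hπ0 (by rw [mul_one, ← mul_assoc]; exact hr)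
  exact hc (IsUnit.of_mul_eq_one r this.symm)

/-- global version -/
theorem mem_map_atPrime_of_pow_mem {A : Type u} [CommRing A] [Algebra V A] [Algebra.FiniteType V A]
    [Module.Flat V A] (q q' : Ideal A) [q.IsPrime] [q'.IsPrime] (hle : q' ≤ q)
    (hq : q.comap (algebraMap V A) = IsLocalRing.maximalIdeal V)
    {Bx : Type u} [CommRing Bx] [Algebra A Bx] [IsLocalization.AtPrime Bx q]
    {By : Type u} [CommRing By] [Algebra A By] [IsLocalization.AtPrime By q']
    (hred : IsReduced (Bx ⧸ (IsLocalRing.maximalIdeal V).map ((algebraMap A Bx).comp (algebraMap V A))))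
    (p : Ideal V) [p.IsPrime] {f : By} {n : ℕ}
    (hf : f ^ n ∈ p.map ((algebraMap A By).comp (algebraMap V A))) :
    f ∈ p.map ((algebraMap A By).comp (algebraMap V A)) := by
  haveI : IsLocalRing Bx := IsLocalization.AtPrime.isLocalRing Bx q
  letI : Algebra V Bx := ((algebraMap A Bx).comp (algebraMap V A)).toAlgebra
  haveI : IsScalarTower V A Bx := IsScalarTower.of_algebraMap_eq fun _ => rfl
  haveI : Module.Flat A Bx := IsLocalization.flat Bx q.primeCompl
  haveI : Module.Flat V Bx := Module.Flat.trans V A Bx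
  haveI : Algebra.EssFiniteType A Bx := Algebra.EssFiniteType.of_isLocalization Bx q.primeCompl
  haveI : Algebra.EssFiniteType V Bx := Algebra.EssFiniteType.comp V A Bx
  haveI : IsLocalHom (algebraMap V Bx) := ⟨fun a ha => by
    by_contra h
    have : algebraMap V A a ∈ q := by
      rw [← Ideal.mem_comap, hq]; exact h
    exact (IsLocalization.AtPrime.to_map_mem_maximal_iff Bx q (algebraMap V A a)).2 this ha⟩
  rw [← Ideal.map_map] at hf ⊢
  obtain ⟨⟨a, t⟩, hat⟩ := IsLocalization.surj q'.primeCompl f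
  have hmem : algebraMap A By (a ^ n) ∈ (p.map (algebraMap V A)).map (algebraMap A By) := by
    rw [map_pow, ← hat, mul_pow]; exact Ideal.mul_mem_right _ _ hf
  obtain ⟨⟨⟨b, hb⟩, s⟩, hbs⟩ := (IsLocalization.mem_map_algebraMap_iff q'.primeCompl By).1 hmem
  rw [← map_mul] at hbs
  obtain ⟨u, hu⟩ := (IsLocalization.eq_iff_exists q'.primeCompl By).1 hbs
  have hq'A : (u : A) * a ^ n * s ∈ p.map (algebraMap V A) := by
    rw [mul_assoc, hu]; exact Ideal.mul_mem_left _ _ hb
  rcases Nat.eq_zero_or_pos n with rfl | hn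
  · have := Ideal.mul_mem_right (1 : By) _ hf
    rw [pow_zero, one_mul] at this
    exact (Ideal.eq_top_iff_one _).2 this ▸ Submodule.mem_top
  have hx : algebraMap A Bx (u * a * s) ^ n ∈ p.map (algebraMap V Bx) := by
    rw [IsScalarTower.algebraMap_eq V A Bx, ← Ideal.map_map, ← map_pow]
    refine Ideal.mem_map_of_mem _ ?_
    rw [show ((u : A) * a * s) ^ n = ((u : A) * a ^ n * s) * ((u : A) * s) ^ (n - 1) by
      obtain ⟨m, rfl⟩ := Nat.exists_eq_add_of_le hn
      rw [Nat.add_sub_cancel_left]; ring]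
    exact Ideal.mul_mem_right _ _ hq'A
  have h1 := mem_map_of_pow_mem hred p hx
  rw [IsScalarTower.algebraMap_eq V A Bx, ← Ideal.map_map] at h1
  obtain ⟨v, hv, hva⟩ := (IsLocalization.algebraMap_mem_map_algebraMap_iff q.primeCompl Bx _ _).1 h1
  have h3 := Ideal.mem_map_of_mem (algebraMap A By) hva
  have hunit : IsUnit (algebraMap A By (v * u * s * t)) :=
    IsLocalization.map_units By (⟨v * u * s * t, mul_mem (mul_mem (mul_mem (fun h => hv (hle h)) u.2) s.2) t.2⟩ : q'.primeCompl)
  refine (Ideal.unit_mul_mem_iff_mem _ hunit).1 ?_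
  convert h3 using 1
  simp only [map_mul]
  rw [← hat]
  ring

end Groth.Agent.ValRed
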